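import Mathlib

/-!
# Element orders of the symmetric and alternating groups of degree 8 (helper5)

`spec_S8 : Set.range (orderOf : Equiv.Perm (Fin 8) → ℕ) = {1, 2, 3, 4, 5, 6, 7, 8, 10, 12, 15}` and
`orderOf_mem_of_alt8`: even permutations of 8 points have order in `{1, 2, 3, 4, 5, 6, 7, 15}`.
The enumeration of cycle types follows lead's `A10Spec.Alt`, with the list of orders as a parameter.
-/

set_option autoImplicit false

namespace Cfsg.Agent.Lib.Helper5.S8Spec

/-- the test of all ways to go on: `acc` is the least common multiple of the parts so far, `par`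
tells whether the sum of the parts plus their number is even so far, `budget` bounds the sum of the
further parts, `fuel` their number -/
def chk (L : List ℕ) : ℕ → ℕ → ℕ → Bool → Bool
  | 0, _, acc, par => !par || L.contains acc
  | fuel + 1, budget, acc, par =>
    (!par || L.contains acc) &&
      (List.range (budget + 1)).all fun a =>
        decide (a < 2) || chk L fuel (budget - a) (Nat.lcm acc a) (if a % 2 = 0 then !par else par)

theorem chk_now {L : List ℕ} {fuel budget acc : ℕ} {par : Bool} (h : chk L fuel budget acc par = true)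
    (hp : par = true) : acc ∈ L := by
  cases fuel with
  | zero =>
    unfold chk at h
    rw [hp] at h
    simpa using h
  | succ fuel =>
    unfold chk at h
    rw [hp, Bool.and_eq_true] at h
    simpa using h.1

theorem chk_sound (L : List ℕ) : ∀ (l : List ℕ) (fuel budget acc : ℕ) (par : Bool),
    chk L fuel budget acc par = true → l.length ≤ fuel → (∀ x ∈ l, 2 ≤ x) → l.sum ≤ budget →
    (par = true ↔ Even (l.sum + l.length)) → l.foldl Nat.lcm acc ∈ L
  | [], fuel, budget, acc, par, h, _, _, _, hpar => by
    apply chk_now h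
    rw [hpar]
    simp
  | a :: l, 0, budget, acc, par, _, hlen, _, _, _ => by
    simp at hlen
  | a :: l, fuel + 1, budget, acc, par, h, hlen, h2, hsum, hpar => by
    unfold chk at h
    rw [Bool.and_eq_true, List.all_eq_true] at h
    have ha2 : 2 ≤ a := h2 a (List.mem_cons_self ..)
    have hab : a ≤ budget := by
      rw [List.sum_cons] at hsum
      omega
    have h3 := h.2 a (List.mem_range.2 (by omega))
    rw [Bool.or_eq_true, decide_eq_true_eq] at h3
    rcases h3 with h3 | h3
    · omega
    · rw [List.foldl_cons]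
      apply chk_sound L l fuel (budget - a) (Nat.lcm acc a) _ h3
      · simpa using hlen
      · intro x hx
        exact h2 x (List.mem_cons_of_mem _ hx)
      · rw [List.sum_cons] at hsum
        omega
      · rw [List.sum_cons, List.length_cons] at hpar
        by_cases hev : a % 2 = 0
        · rw [if_pos hev]
          have : Even (a + l.sum + (l.length + 1)) ↔ ¬ Even (l.sum + l.length) := by
            rw [Nat.even_iff, Nat.even_iff]
            omega
          rw [this] at hpar
          cases par <;> simp_all
        · rw [if_neg hev]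
          have : Even (a + l.sum + (l.length + 1)) ↔ Even (l.sum + l.length) := by
            rw [Nat.even_iff, Nat.even_iff]
            omega
          rw [this] at hpar
          exact hpar

/-- the orders of the elements of the symmetric group of degree 8 -/
def specS : List ℕ := [1, 2, 3, 4, 5, 6, 7, 8, 10, 12, 15]

/-- the orders of the elements of the alternating group of degree 8 -/
def specA : List ℕ := [1, 2, 3, 4, 5, 6, 7, 15]

theorem chk_S_even : chk specS 4 8 1 true = true := by decide +kernel

theorem chk_S_odd : chk specS 4 8 1 false = true := by decide +kernel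

theorem chk_A : chk specA 4 8 1 true = true := by decide +kernel

/-- list-level statement: `lcm` of the cycle type of a permutation of 8 points -/
theorem lcm_mem_of_list (L : List ℕ) (par : Bool) (hchk : chk L 4 8 1 par = true) (l : List ℕ)
    (h2 : ∀ x ∈ l, 2 ≤ x) (hsum : l.sum ≤ 8) (hpar : par = true ↔ Even (l.sum + l.length)) :
    (l : Multiset ℕ).lcm ∈ L := by
  have hlen : l.length ≤ 4 := by
    have h3 : 2 * l.length ≤ l.sum := by
      have : ∀ l : List ℕ, (∀ x ∈ l, 2 ≤ x) → 2 * l.length ≤ l.sum := by
        intro l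
        induction l with
        | nil => intro _; simp
        | cons a l ih =>
          intro h
          rw [List.length_cons, List.sum_cons]
          have := ih (fun x hx => h x (List.mem_cons_of_mem _ hx))
          have := h a (List.mem_cons_self ..)
          omega
      exact this l h2
    omega
  have key := chk_sound L l 4 8 1 par hchk hlen h2 hsum hpar
  have hfold : (l : Multiset ℕ).lcm = l.foldl Nat.lcm 1 := by
    unfold Multiset.lcm
    rw [Multiset.coe_fold_l]
    rfl
  rw [hfold]
  exact key

theorem cycleType_facts (σ : Equiv.Perm (Fin 8)) :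
    ∃ l : List ℕ, σ.cycleType = (l : Multiset ℕ) ∧ (∀ x ∈ l, 2 ≤ x) ∧ l.sum ≤ 8 ∧
      (Equiv.Perm.sign σ = 1 ↔ Even (l.sum + l.length)) := by
  obtain ⟨l, hl⟩ := Quot.exists_rep σ.cycleType
  have hl' : σ.cycleType = (l : Multiset ℕ) := hl.symm
  refine ⟨l, hl', ?_, ?_, ?_⟩
  · intro x hx
    exact Equiv.Perm.two_le_of_mem_cycleType (by rw [hl']; simpa using hx)
  · have := σ.sum_cycleType_le
    rw [hl', Multiset.sum_coe] at this
    simpa using this
  · rw [Equiv.Perm.sign_of_cycleType, hl', Multiset.sum_coe, Multiset.coe_card]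
    constructor
    · intro h
      by_contra hodd
      rw [Nat.not_even_iff_odd] at hodd
      rw [Odd.neg_one_pow hodd] at h
      revert h
      decide
    · intro h
      exact Even.neg_one_pow h

theorem orderOf_mem_specS (σ : Equiv.Perm (Fin 8)) : orderOf σ ∈ specS := by
  obtain ⟨l, hl, h2, hsum, hsign⟩ := cycleType_facts σ
  rw [← Equiv.Perm.lcm_cycleType, hl]
  by_cases hev : Even (l.sum + l.length)
  · exact lcm_mem_of_list specS true chk_S_even l h2 hsum (by simpa using hev)
  · exact lcm_mem_of_list specS false chk_S_odd l h2 hsum (by simpa using hev)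

theorem orderOf_mem_of_alt8 (σ : Equiv.Perm (Fin 8)) (hσ : σ ∈ alternatingGroup (Fin 8)) :
    orderOf σ ∈ specA := by
  obtain ⟨l, hl, h2, hsum, hsign⟩ := cycleType_facts σ
  rw [Equiv.Perm.mem_alternatingGroup] at hσ
  rw [← Equiv.Perm.lcm_cycleType, hl]
  exact lcm_mem_of_list specA true chk_A l h2 hsum (by simpa using hsign.1 hσ)

/-- the product of a list of transpositions -/
def swaps (l : List (Fin 8 × Fin 8)) : Equiv.Perm (Fin 8) :=
  (l.map fun p => Equiv.swap p.1 p.2).prod

theorem sign_swaps : ∀ l : List (Fin 8 × Fin 8), (∀ p ∈ l, p.1 ≠ p.2) →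
    Equiv.Perm.sign (swaps l) = (-1) ^ l.length
  | [], _ => by simp [swaps]
  | p :: l, h => by
    have ih := sign_swaps l (fun q hq => h q (List.mem_cons_of_mem _ hq))
    unfold swaps at ih ⊢
    rw [List.map_cons, List.prod_cons, Equiv.Perm.sign_mul,
      Equiv.Perm.sign_swap (h p (List.mem_cons_self ..)), ih, List.length_cons, pow_succ]
    simp

/-- the test that a product of transpositions has order `n` -/
def ordOK (l : List (Fin 8 × Fin 8)) (n : ℕ) : Bool :=
  decide (swaps l ^ n = 1) && (List.range n).all fun m => m == 0 || decide (swaps l ^ m ≠ 1)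

theorem ordOK_sound {l : List (Fin 8 × Fin 8)} {n : ℕ} (hn : 0 < n) (h : ordOK l n = true) :
    orderOf (swaps l) = n := by
  unfold ordOK at h
  simp only [Bool.and_eq_true, List.all_eq_true, decide_eq_true_eq,
    List.mem_range, Bool.or_eq_true, beq_iff_eq, decide_not, Bool.not_eq_eq_eq_not, Bool.not_true,
    decide_eq_false_iff_not] at h
  obtain ⟨h3, h4⟩ := h
  rw [orderOf_eq_iff hn]
  refine ⟨h3, fun m hm hm0 => ?_⟩
  rcases h4 m hm with h5 | h5
  · omega
  · exact h5

theorem exists_orderOf_of_dvd {G : Type*} [Group G] (w : G) {n : ℕ} (hn : n ∣ orderOf w)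
    (h0 : orderOf w ≠ 0) : ∃ x : G, orderOf x = n := by
  obtain ⟨d, hd⟩ := hn
  have hd0 : d ≠ 0 := by
    rintro rfl
    exact h0 (by rw [hd, mul_zero])
  refine ⟨w ^ d, ?_⟩
  rw [orderOf_pow_of_dvd hd0 ⟨n, by rw [hd, mul_comm]⟩, hd,
    Nat.mul_div_cancel _ (Nat.pos_of_ne_zero hd0)]

/-- the five cycle shapes carrying all element orders -/
def c7 : List (Fin 8 × Fin 8) := [(0,1),(1,2),(2,3),(3,4),(4,5),(5,6)]
def c8 : List (Fin 8 × Fin 8) := [(0,1),(1,2),(2,3),(3,4),(4,5),(5,6),(6,7)]
def c10 : List (Fin 8 × Fin 8) := [(0,1),(1,2),(2,3),(3,4),(5,6)]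
def c12 : List (Fin 8 × Fin 8) := [(0,1),(1,2),(2,3),(4,5),(5,6)]
def c15 : List (Fin 8 × Fin 8) := [(0,1),(1,2),(2,3),(3,4),(5,6),(6,7)]

theorem ord_c7 : ordOK c7 7 = true := by decide +kernel
theorem ord_c8 : ordOK c8 8 = true := by decide +kernel
theorem ord_c10 : ordOK c10 10 = true := by decide +kernel
theorem ord_c12 : ordOK c12 12 = true := by decide +kernel
theorem ord_c15 : ordOK c15 15 = true := by decide +kernel

theorem specS_cover : ∀ n ∈ specS, n ∣ 7 ∨ n ∣ 8 ∨ n ∣ 10 ∨ n ∣ 12 ∨ n ∣ 15 := by decide

/-- **T1**: the set of element orders of the symmetric group of degree 8 -/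
theorem spec_S8 : Set.range (orderOf : Equiv.Perm (Fin 8) → ℕ) =
    {1, 2, 3, 4, 5, 6, 7, 8, 10, 12, 15} := by
  apply Set.Subset.antisymm
  · rintro _ ⟨σ, rfl⟩
    have := orderOf_mem_specS σ
    simp only [specS, List.mem_cons, List.not_mem_nil, or_false] at this
    simp only [Set.mem_insert_iff, Set.mem_singleton_iff]
    exact this
  · intro n hn
    have hn' : n ∈ specS := by
      simp only [Set.mem_insert_iff, Set.mem_singleton_iff] at hn
      simp only [specS, List.mem_cons, List.not_mem_nil, or_false]
      exact hn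
    have h7 := ordOK_sound (by norm_num) ord_c7
    have h8 := ordOK_sound (by norm_num) ord_c8
    have h10 := ordOK_sound (by norm_num) ord_c10
    have h12 := ordOK_sound (by norm_num) ord_c12
    have h15 := ordOK_sound (by norm_num) ord_c15
    rcases specS_cover n hn' with h | h | h | h | h
    · exact exists_orderOf_of_dvd (swaps c7) (by rw [h7]; exact h) (by rw [h7]; norm_num)
    · exact exists_orderOf_of_dvd (swaps c8) (by rw [h8]; exact h) (by rw [h8]; norm_num)
    · exact exists_orderOf_of_dvd (swaps c10) (by rw [h10]; exact h) (by rw [h10]; norm_num)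
    · exact exists_orderOf_of_dvd (swaps c12) (by rw [h12]; exact h) (by rw [h12]; norm_num)
    · exact exists_orderOf_of_dvd (swaps c15) (by rw [h15]; exact h) (by rw [h15]; norm_num)

end Cfsg.Agent.Lib.Helper5.S8Spec
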