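import Mathlib
import Cfsg.Agent.Lib.Helper5.S8Spec.Cyc

/-!
# The groups `(E / ⟨1⟩)^ι ⋊ A_8` (helper5)

`G0 ι` is the group of pairs `(p, a)` with `p` a permutation of 8 points and `a` an `ι`-indexed family of
vectors of `(ZMod 2)^8`; `K0` is the normal subgroup of the `(1, a)` with every `a i` constant, and `G1` the subgroup
with `p` even and every `a i` of even weight.
-/

set_option autoImplicit false

namespace Cfsg.Agent.Lib.Helper5.S8Spec

/-- vectors of `(ZMod 2)^8` -/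
abbrev Vec := Fin 8 → ZMod 2

/-- the permutation action -/
def act (p : Equiv.Perm (Fin 8)) (v : Vec) : Vec := fun j => v (p⁻¹ j)

theorem act_apply (p : Equiv.Perm (Fin 8)) (v : Vec) (j : Fin 8) : act p v j = v (p⁻¹ j) := rfl

theorem act_one (v : Vec) : act 1 v = v := by
  funext j
  simp [act]

theorem act_mul (p q : Equiv.Perm (Fin 8)) (v : Vec) : act (p * q) v = act p (act q v) := by
  funext j
  simp [act, mul_inv_rev]

theorem act_add (p : Equiv.Perm (Fin 8)) (v w : Vec) : act p (v + w) = act p v + act p w := rfl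

theorem act_zero (p : Equiv.Perm (Fin 8)) : act p 0 = 0 := rfl

theorem act_neg (p : Equiv.Perm (Fin 8)) (v : Vec) : act p (-v) = -act p v := rfl

theorem sum_act (p : Equiv.Perm (Fin 8)) (v : Vec) : ∑ j, act p v j = ∑ j, v j := by
  unfold act
  exact Equiv.sum_comp (p⁻¹ : Equiv.Perm (Fin 8)) v

theorem vec_add_self (v : Vec) : v + v = 0 := by
  funext j
  exact CharTwo.add_self_eq_zero (v j)

/-- pairs (permutation, family of vectors) -/
@[ext]
structure G0 (ι : Type) where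
  /-- the permutation -/
  p : Equiv.Perm (Fin 8)
  /-- the vectors -/
  a : ι → Vec

namespace G0

variable {ι : Type}

instance : Mul (G0 ι) := ⟨fun x y => ⟨x.p * y.p, fun i => x.a i + act x.p (y.a i)⟩⟩

instance : One (G0 ι) := ⟨⟨1, fun _ => 0⟩⟩

instance : Inv (G0 ι) := ⟨fun x => ⟨x.p⁻¹, fun i => -(act x.p⁻¹ (x.a i))⟩⟩

theorem mul_p (x y : G0 ι) : (x * y).p = x.p * y.p := rfl

theorem mul_a (x y : G0 ι) (i : ι) : (x * y).a i = x.a i + act x.p (y.a i) := rfl

theorem one_p : (1 : G0 ι).p = 1 := rfl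

theorem one_a (i : ι) : (1 : G0 ι).a i = 0 := rfl

theorem inv_p (x : G0 ι) : (x⁻¹).p = x.p⁻¹ := rfl

theorem inv_a (x : G0 ι) (i : ι) : (x⁻¹).a i = -(act x.p⁻¹ (x.a i)) := rfl

instance : Group (G0 ι) where
  mul_assoc x y z := by
    ext1
    · exact mul_assoc _ _ _
    · funext i
      simp only [mul_a, mul_p, act_add, act_mul, add_assoc]
  one_mul x := by
    ext1
    · exact one_mul _
    · funext i
      simp only [mul_a, one_a, one_p, act_one, zero_add]
  mul_one x := by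
    ext1
    · exact mul_one _
    · funext i
      simp only [mul_a, one_a, act_zero, add_zero]
  inv_mul_cancel x := by
    ext1
    · exact inv_mul_cancel _
    · funext i
      simp only [mul_a, inv_a, inv_p, one_a, neg_add_cancel]

theorem pow_p (x : G0 ι) (m : ℕ) : (x ^ m).p = x.p ^ m := by
  induction m with
  | zero => rfl
  | succ m ih => rw [pow_succ, mul_p, ih, pow_succ]

theorem pow_a (x : G0 ι) (m : ℕ) (i : ι) :
    (x ^ m).a i = ∑ j ∈ Finset.range m, act (x.p ^ j) (x.a i) := by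
  induction m with
  | zero => simp [one_a]
  | succ m ih => rw [pow_succ, mul_a, ih, pow_p, Finset.sum_range_succ]

/-- the translations by constant vectors -/
def K0 (ι : Type) : Subgroup (G0 ι) where
  carrier := {x | x.p = 1 ∧ ∀ i j k, x.a i j = x.a i k}
  mul_mem' := by
    rintro x y ⟨hx1, hx2⟩ ⟨hy1, hy2⟩
    refine ⟨by rw [mul_p, hx1, hy1, mul_one], fun i j k => ?_⟩
    rw [mul_a, hx1, act_one, Pi.add_apply, Pi.add_apply, hx2 i j k, hy2 i j k]
  one_mem' := ⟨rfl, fun _ _ _ => rfl⟩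
  inv_mem' := by
    rintro x ⟨hx1, hx2⟩
    refine ⟨by rw [inv_p, hx1, inv_one], fun i j k => ?_⟩
    rw [inv_a, hx1, inv_one, act_one, Pi.neg_apply, Pi.neg_apply, hx2 i j k]

theorem mem_K0 {x : G0 ι} : x ∈ K0 ι ↔ x.p = 1 ∧ ∀ i j k, x.a i j = x.a i k := Iff.rfl

instance : (K0 ι).Normal where
  conj_mem := by
    rintro n ⟨hn1, hn2⟩ g
    refine ⟨by rw [mul_p, mul_p, hn1, mul_one, inv_p, mul_inv_cancel], fun i j k => ?_⟩
    have e : (g * n * g⁻¹).a i = act g.p (n.a i) := by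
      rw [mul_a, mul_a, mul_p, hn1, mul_one, inv_a, act_neg, ← act_mul, mul_inv_cancel, act_one]
      abel
    rw [e, act_apply, act_apply]
    exact hn2 i _ _

/-- even permutations and even-weight vectors -/
def G1 (ι : Type) : Subgroup (G0 ι) where
  carrier := {x | x.p ∈ alternatingGroup (Fin 8) ∧ ∀ i, ∑ j, x.a i j = 0}
  mul_mem' := by
    rintro x y ⟨hx1, hx2⟩ ⟨hy1, hy2⟩
    refine ⟨by rw [mul_p]; exact mul_mem hx1 hy1, fun i => ?_⟩
    rw [mul_a]
    simp only [Pi.add_apply]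
    rw [Finset.sum_add_distrib, hx2 i, sum_act, hy2 i, add_zero]
  one_mem' := ⟨one_mem _, fun _ => by simp [one_a]⟩
  inv_mem' := by
    rintro x ⟨hx1, hx2⟩
    refine ⟨by rw [inv_p]; exact inv_mem hx1, fun i => ?_⟩
    rw [inv_a]
    simp only [Pi.neg_apply]
    rw [Finset.sum_neg_distrib, sum_act, hx2 i, neg_zero]

theorem mem_G1 {x : G0 ι} : x ∈ G1 ι ↔ x.p ∈ alternatingGroup (Fin 8) ∧ ∀ i, ∑ j, x.a i j = 0 :=
  Iff.rfl

/-- the order of the image of `x` modulo `K0` -/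
noncomputable def ordQ (x : G0 ι) : ℕ := orderOf (QuotientGroup.mk x : G0 ι ⧸ K0 ι)

theorem mk_pow_eq_one_iff (x : G0 ι) (k : ℕ) :
    (QuotientGroup.mk x : G0 ι ⧸ K0 ι) ^ k = 1 ↔ x ^ k ∈ K0 ι := by
  rw [← QuotientGroup.mk_pow, QuotientGroup.eq_one_iff]

theorem orderOf_p_dvd_ordQ (x : G0 ι) : orderOf x.p ∣ ordQ x := by
  have h := (mk_pow_eq_one_iff x (ordQ x)).1 (pow_orderOf_eq_one _)
  apply orderOf_dvd_of_pow_eq_one
  rw [← pow_p]
  exact h.1

theorem pow_two_orderOf (x : G0 ι) : x ^ (orderOf x.p * 2) = 1 := by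
  rw [pow_mul, pow_two]
  have h1 : (x ^ orderOf x.p).p = 1 := by rw [pow_p, pow_orderOf_eq_one]
  ext1
  · rw [mul_p, h1, mul_one, one_p]
  · funext i
    rw [mul_a, h1, act_one, vec_add_self, one_a]

theorem ordQ_dvd (x : G0 ι) : ordQ x ∣ orderOf x.p * 2 := by
  apply orderOf_dvd_of_pow_eq_one
  rw [← QuotientGroup.mk_pow, pow_two_orderOf]
  rfl

theorem ordQ_eq_or (x : G0 ι) : ordQ x = orderOf x.p ∨ ordQ x = orderOf x.p * 2 := by
  have ho : 0 < orderOf x.p := orderOf_pos x.p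
  obtain ⟨t, ht⟩ := orderOf_p_dvd_ordQ x
  obtain ⟨s, hs⟩ := ordQ_dvd x
  rw [ht, mul_assoc] at hs
  have hts : 2 = t * s := Nat.eq_of_mul_eq_mul_left ho hs
  have ht2 : t ∣ 2 := ⟨s, hts⟩
  have ht3 : t = 1 ∨ t = 2 := by
    have := Nat.le_of_dvd (by norm_num) ht2
    interval_cases t
    · omega
    · exact Or.inl rfl
    · exact Or.inr rfl
  rcases ht3 with rfl | rfl
  · left; rw [ht, mul_one]
  · right; exact ht

theorem ordQ_eq_of_mem (x : G0 ι) (h : x ^ orderOf x.p ∈ K0 ι) : ordQ x = orderOf x.p := by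
  apply Nat.dvd_antisymm
  · exact orderOf_dvd_of_pow_eq_one ((mk_pow_eq_one_iff x _).2 h)
  · exact orderOf_p_dvd_ordQ x

theorem ordQ_eq_of_not_mem (x : G0 ι) (h : x ^ orderOf x.p ∉ K0 ι) :
    ordQ x = orderOf x.p * 2 := by
  rcases ordQ_eq_or x with h1 | h1
  · exfalso
    apply h
    rw [← mk_pow_eq_one_iff, ← h1]
    exact pow_orderOf_eq_one _
  · exact h1

/-- the vector part of `x ^ o(p)` is fixed by `p` -/
theorem act_pow_orderOf (x : G0 ι) (i : ι) :
    act x.p ((x ^ orderOf x.p).a i) = (x ^ orderOf x.p).a i := by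
  have h1 : x * x ^ orderOf x.p = x ^ orderOf x.p * x := by
    rw [← pow_succ', ← pow_succ]
  have h2 := congrArg (fun y : G0 ι => y.a i) h1
  simp only [mul_a, pow_p, pow_orderOf_eq_one, act_one] at h2
  -- `a + act p b = b + a`
  have h3 : act x.p ((x ^ orderOf x.p).a i) = (x ^ orderOf x.p).a i + x.a i - x.a i := by
    rw [← h2]; abel
  rw [h3]; abel

end G0

end Cfsg.Agent.Lib.Helper5.S8Spec
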