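import Mathlib
import Cfsg.Agent.Lib.Helper5.S8Spec.Grp

/-!
# Invariant even-weight vectors of elements of order 7 and 15 are constant (helper5)
-/

set_option autoImplicit false

namespace Cfsg.Agent.Lib.Helper5.S8Spec

open Function

theorem inv_of_act {σ : Equiv.Perm (Fin 8)} {f : Vec} (hf : act σ f = f) (j : Fin 8) :
    f (σ j) = f j := by
  have := congrFun hf (σ j)
  rw [act_apply, Equiv.Perm.inv_def, Equiv.symm_apply_apply] at this
  exact this.symm

theorem inv_pow_of_act {σ : Equiv.Perm (Fin 8)} {f : Vec} (hf : act σ f = f) (i : ℕ) (j : Fin 8) :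
    f ((σ ^ i) j) = f j := by
  induction i with
  | zero => simp
  | succ i ih => rw [pow_succ', Equiv.Perm.mul_apply, inv_of_act hf, ih]

/-- the orbit of `x` -/
noncomputable def orb (σ : Equiv.Perm (Fin 8)) (x : Fin 8) : Finset (Fin 8) :=
  (Finset.range (minimalPeriod σ x)).image (fun i => (σ ^ i) x)

theorem card_orb (σ : Equiv.Perm (Fin 8)) (x : Fin 8) : (orb σ x).card = minimalPeriod σ x := by
  unfold orb
  rw [Finset.card_image_of_injOn, Finset.card_range]
  intro a ha b hb hab
  simp only [← Equiv.Perm.iterate_eq_pow] at hab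
  exact iterate_injOn_Iio_minimalPeriod (f := σ) (x := x) (by simpa using ha) (by simpa using hb) hab

theorem const_on_orb {σ : Equiv.Perm (Fin 8)} {f : Vec} (hf : act σ f = f) (x : Fin 8) :
    ∀ j ∈ orb σ x, f j = f x := by
  intro j hj
  obtain ⟨i, _, rfl⟩ := Finset.mem_image.1 hj
  exact inv_pow_of_act hf i x

theorem minimalPeriod_dvd_orderOf (σ : Equiv.Perm (Fin 8)) (x : Fin 8) :
    minimalPeriod σ x ∣ orderOf σ := by
  apply IsPeriodicPt.minimalPeriod_dvd
  show σ^[orderOf σ] x = x
  rw [Equiv.Perm.iterate_eq_pow, pow_orderOf_eq_one, Equiv.Perm.one_apply]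

theorem minimalPeriod_le (σ : Equiv.Perm (Fin 8)) (x : Fin 8) : minimalPeriod σ x ≤ 8 := by
  rw [← card_orb]
  have := Finset.card_le_univ (orb σ x)
  simpa using this

theorem pow_apply_of_dvd {σ : Equiv.Perm (Fin 8)} {x : Fin 8} {k : ℕ}
    (h : minimalPeriod σ x ∣ k) : (σ ^ k) x = x := by
  have := (isPeriodicPt_iff_minimalPeriod_dvd (f := σ) (x := x) (n := k)).2 h
  rw [← Equiv.Perm.iterate_eq_pow]
  exact this

theorem const_of_odd_split (f : Vec) (O : Finset (Fin 8)) (c c' : ZMod 2)
    (h1 : ∀ j ∈ O, f j = c) (h2 : ∀ j ∉ O, f j = c') (hodd : Odd O.card)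
    (hsum : ∑ j, f j = 0) : ∀ j k, f j = f k := by
  have hc : (Oᶜ).card = 8 - O.card := by
    rw [Finset.card_compl]; simp
  have hle : O.card ≤ 8 := by
    have := Finset.card_le_univ O
    simpa using this
  have hodd' : Odd (Oᶜ).card := by
    rw [hc]
    obtain ⟨t, ht⟩ := hodd
    exact ⟨3 - t, by omega⟩
  have e1 : ∑ j ∈ O, f j = c := by
    rw [Finset.sum_congr rfl h1, Finset.sum_const, nsmul_eq_mul,
      (ZMod.natCast_eq_one_iff_odd).2 hodd, one_mul]
  have e2 : ∑ j ∈ Oᶜ, f j = c' := by
    rw [Finset.sum_congr rfl (fun j hj => h2 j (Finset.mem_compl.1 hj)), Finset.sum_const,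
      nsmul_eq_mul, (ZMod.natCast_eq_one_iff_odd).2 hodd', one_mul]
  rw [← Finset.sum_add_sum_compl O, e1, e2] at hsum
  have hcc : c = c' := CharTwo.add_eq_zero.1 hsum
  have hall : ∀ j, f j = c := by
    intro j
    by_cases hj : j ∈ O
    · exact h1 j hj
    · rw [h2 j hj, hcc]
  intro j k
  rw [hall j, hall k]

theorem const_of_invariant (σ : Equiv.Perm (Fin 8)) (hσ : orderOf σ = 7 ∨ orderOf σ = 15)
    (f : Vec) (hf : act σ f = f) (hsum : ∑ j, f j = 0) : ∀ j k, f j = f k := by
  rcases hσ with h7 | h15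
  · -- one orbit of length 7 and a fixed point
    have hne : σ ≠ 1 := by
      rintro rfl
      rw [orderOf_one] at h7
      omega
    obtain ⟨x, hx⟩ : ∃ x, σ x ≠ x := by
      by_contra hcon
      push Not at hcon
      exact hne (Equiv.ext hcon)
    have hd : minimalPeriod σ x = 7 := by
      have h1 := minimalPeriod_dvd_orderOf σ x
      rw [h7] at h1
      rcases (Nat.dvd_prime (by norm_num : Nat.Prime 7)).1 h1 with h | h
      · exfalso
        exact hx (minimalPeriod_eq_one_iff_isFixedPt.1 h)
      · exact h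
    have hcard : (orb σ x).card = 7 := by rw [card_orb, hd]
    have hcc : ((orb σ x)ᶜ).card = 1 := by
      rw [Finset.card_compl, hcard]; simp
    obtain ⟨y, hy⟩ := Finset.card_eq_one.1 hcc
    refine const_of_odd_split f (orb σ x) (f x) (f y) (const_on_orb hf x) ?_
      (by rw [hcard]; decide) hsum
    intro j hj
    have : j ∈ (orb σ x)ᶜ := Finset.mem_compl.2 hj
    rw [hy, Finset.mem_singleton] at this
    rw [this]
  · -- an orbit of length 5 and an orbit of length 3
    have h3 : σ ^ 3 ≠ 1 := by
      intro h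
      have := orderOf_dvd_of_pow_eq_one h
      rw [h15] at this
      omega
    have h5 : σ ^ 5 ≠ 1 := by
      intro h
      have := orderOf_dvd_of_pow_eq_one h
      rw [h15] at this
      omega
    obtain ⟨x, hx⟩ : ∃ x, (σ ^ 3) x ≠ x := by
      by_contra hcon
      push Not at hcon
      exact h3 (Equiv.ext hcon)
    obtain ⟨y, hy⟩ : ∃ y, (σ ^ 5) y ≠ y := by
      by_contra hcon
      push Not at hcon
      exact h5 (Equiv.ext hcon)
    have hdx : minimalPeriod σ x = 5 := by
      have h1 := minimalPeriod_dvd_orderOf σ x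
      rw [h15] at h1
      have h2 := minimalPeriod_le σ x
      have h4 : ¬ minimalPeriod σ x ∣ 3 := fun h => hx (pow_apply_of_dvd h)
      have h6 : minimalPeriod σ x ∈ Nat.divisors 15 := Nat.mem_divisors.2 ⟨h1, by norm_num⟩
      have h7 : Nat.divisors 15 = {1, 3, 5, 15} := by decide
      rw [h7] at h6
      simp only [Finset.mem_insert, Finset.mem_singleton] at h6
      rcases h6 with h | h | h | h
      · exact absurd (by rw [h]; exact one_dvd 3) h4
      · exact absurd (by rw [h]) h4
      · exact h
      · omega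
    have hdy : minimalPeriod σ y = 3 := by
      have h1 := minimalPeriod_dvd_orderOf σ y
      rw [h15] at h1
      have h2 := minimalPeriod_le σ y
      have h4 : ¬ minimalPeriod σ y ∣ 5 := fun h => hy (pow_apply_of_dvd h)
      have h6 : minimalPeriod σ y ∈ Nat.divisors 15 := Nat.mem_divisors.2 ⟨h1, by norm_num⟩
      have h7 : Nat.divisors 15 = {1, 3, 5, 15} := by decide
      rw [h7] at h6
      simp only [Finset.mem_insert, Finset.mem_singleton] at h6
      rcases h6 with h | h | h | h
      · exact absurd (by rw [h]; exact one_dvd 5) h4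
      · exact h
      · exact absurd (by rw [h]) h4
      · omega
    have hcx : (orb σ x).card = 5 := by rw [card_orb, hdx]
    have hcy : (orb σ y).card = 3 := by rw [card_orb, hdy]
    have hsub : orb σ y ⊆ (orb σ x)ᶜ := by
      intro j hjy
      rw [Finset.mem_compl]
      intro hjx
      obtain ⟨a, _, ha⟩ := Finset.mem_image.1 hjx
      obtain ⟨b, hb, hb'⟩ := Finset.mem_image.1 hjy
      have hb3 : b < 3 := by rw [hdy] at hb; exact Finset.mem_range.1 hb
      -- `y = σ ^ (15 - b + a) x`
      have e1 : (σ ^ (15 - b + a)) x = y := by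
        rw [pow_add, Equiv.Perm.mul_apply]
        show (σ ^ (15 - b)) ((σ ^ a) x) = y
        rw [ha, ← hb', ← Equiv.Perm.mul_apply, ← pow_add]
        have : 15 - b + b = 15 := by omega
        rw [this, ← h15, pow_orderOf_eq_one, Equiv.Perm.one_apply]
      have hper : x ∈ periodicPts σ :=
        mk_mem_periodicPts (by norm_num : 0 < 15)
          (by
            show σ^[15] x = x
            rw [Equiv.Perm.iterate_eq_pow, ← h15, pow_orderOf_eq_one, Equiv.Perm.one_apply])
      have e2 := minimalPeriod_apply_iterate hper (15 - b + a)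
      rw [Equiv.Perm.iterate_eq_pow, e1, hdx, hdy] at e2
      omega
    have hcc : ((orb σ x)ᶜ).card = 3 := by
      rw [Finset.card_compl, hcx]; simp
    have heq : orb σ y = (orb σ x)ᶜ :=
      Finset.eq_of_subset_of_card_le hsub (by rw [hcc, hcy])
    refine const_of_odd_split f (orb σ x) (f x) (f y) (const_on_orb hf x) ?_
      (by rw [hcx]; decide) hsum
    intro j hj
    have : j ∈ orb σ y := by rw [heq]; exact Finset.mem_compl.2 hj
    exact const_on_orb hf y j this

end Cfsg.Agent.Lib.Helper5.S8Spec
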