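import Mathlib
import Cfsg.Agent.Lib.Helper5.S8Spec.Inv

/-!
# Arbitrarily large groups with the element orders of the symmetric group of degree 8 (helper5)

`exists_big`: for every `N` there is a finite group of order `> N` whose set of element orders is
`{1, 2, 3, 4, 5, 6, 7, 8, 10, 12, 15}` (the groups `(E / ⟨1⟩)^ι ⋊ A_8`).
-/

set_option autoImplicit false

namespace Cfsg.Agent.Lib.Helper5.S8Spec

open G0

/-- the group `(E / ⟨1⟩)^ι ⋊ A_8` -/
abbrev HH (ι : Type) : Type := ↥((G1 ι).map (QuotientGroup.mk' (K0 ι)))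

/-- pairs -/
def equivProd (ι : Type) : G0 ι ≃ Equiv.Perm (Fin 8) × (ι → Vec) where
  toFun x := (x.p, x.a)
  invFun y := ⟨y.1, y.2⟩
  left_inv _ := rfl
  right_inv _ := rfl

instance (ι : Type) [Finite ι] : Finite (G0 ι) := Finite.of_equiv _ (equivProd ι).symm

theorem orderOf_HH {ι : Type} (x : G0 ι) (hx : x ∈ G1 ι) :
    orderOf (⟨QuotientGroup.mk' (K0 ι) x, Subgroup.mem_map_of_mem _ hx⟩ : HH ι) = ordQ x := by
  rw [← Subgroup.orderOf_coe]
  rfl

/-- for `p` of order 7 or 15 the order does not double -/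
theorem ordQ_of_7_15 {ι : Type} (x : G0 ι) (hx : x ∈ G1 ι)
    (ho : orderOf x.p = 7 ∨ orderOf x.p = 15) : ordQ x = orderOf x.p := by
  apply ordQ_eq_of_mem
  refine ⟨by rw [pow_p, pow_orderOf_eq_one], fun i => ?_⟩
  have hmem : x ^ orderOf x.p ∈ G1 ι := Subgroup.pow_mem _ hx _
  exact const_of_invariant x.p ho _ (act_pow_orderOf x i) (hmem.2 i)

theorem ordQ_mem_specS {ι : Type} (x : G0 ι) (hx : x ∈ G1 ι) : ordQ x ∈ specS := by
  have ho := orderOf_mem_of_alt8 x.p hx.1
  simp only [specA, List.mem_cons, List.not_mem_nil, or_false] at ho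
  simp only [specS, List.mem_cons, List.not_mem_nil, or_false]
  rcases ho with h | h | h | h | h | h | h | h
  · rcases ordQ_eq_or x with h' | h' <;> rw [h', h] <;> simp
  · rcases ordQ_eq_or x with h' | h' <;> rw [h', h] <;> simp
  · rcases ordQ_eq_or x with h' | h' <;> rw [h', h] <;> simp
  · rcases ordQ_eq_or x with h' | h' <;> rw [h', h] <;> simp
  · rcases ordQ_eq_or x with h' | h' <;> rw [h', h] <;> simp
  · rcases ordQ_eq_or x with h' | h' <;> rw [h', h] <;> simp
  · rw [ordQ_of_7_15 x hx (Or.inl h), h]; simp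
  · rw [ordQ_of_7_15 x hx (Or.inr h), h]; simp

/-- the witnesses: a product of transpositions and the same vector in every coordinate -/
def wit (ι : Type) (l : List (Fin 8 × Fin 8)) (v : Vec) : G0 ι := ⟨swaps l, fun _ => v⟩

/-- test for membership in `G1` -/
def memOK (l : List (Fin 8 × Fin 8)) (v : Vec) : Bool :=
  l.all (fun p => p.1 != p.2) && decide (l.length % 2 = 0) && decide (∑ j, v j = 0)

theorem memOK_sound {ι : Type} {l : List (Fin 8 × Fin 8)} {v : Vec} (h : memOK l v = true) :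
    wit ι l v ∈ G1 ι := by
  unfold memOK at h
  simp only [Bool.and_eq_true, List.all_eq_true, bne_iff_ne, ne_eq, decide_eq_true_eq] at h
  obtain ⟨⟨h1, h2⟩, h3⟩ := h
  refine ⟨?_, fun _ => h3⟩
  show swaps l ∈ alternatingGroup (Fin 8)
  rw [Equiv.Perm.mem_alternatingGroup, sign_swaps l (fun p hp => h1 p hp)]
  exact Even.neg_one_pow (Nat.even_iff.2 h2)

/-- test that the order doubles: the vector part of the `o`-th power is not constant -/
def dblOK (l : List (Fin 8 × Fin 8)) (v : Vec) (o : ℕ) (j k : Fin 8) : Bool :=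
  decide ((∑ t ∈ Finset.range o, act (swaps l ^ t) v) j ≠ (∑ t ∈ Finset.range o, act (swaps l ^ t) v) k)

theorem dbl_sound {ι : Type} [Nonempty ι] {l : List (Fin 8 × Fin 8)} {v : Vec} {o : ℕ} {j k : Fin 8}
    (ho : orderOf (swaps l) = o) (h : dblOK l v o j k = true) : ordQ (wit ι l v) = o * 2 := by
  unfold dblOK at h
  rw [decide_eq_true_eq] at h
  have hp : (wit ι l v).p = swaps l := rfl
  rw [← ho, ← hp]
  apply ordQ_eq_of_not_mem
  intro hmem
  obtain ⟨i⟩ := ‹Nonempty ι›
  have := hmem.2 i j k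
  rw [pow_a, hp, ho] at this
  exact h this

def v8 : Vec := fun j => if j = 0 ∨ j = 7 then 1 else 0
def v10 : Vec := fun j => if j = 5 ∨ j = 6 then 1 else 0
def v12 : Vec := fun j => if j = 3 ∨ j = 7 then 1 else 0

def d8 : List (Fin 8 × Fin 8) := [(0,1),(1,2),(2,3),(4,5)]
def d10 : List (Fin 8 × Fin 8) := [(0,1),(1,2),(2,3),(3,4)]
def d12 : List (Fin 8 × Fin 8) := [(0,1),(1,2),(3,4),(5,6)]

theorem ord_d8 : ordOK d8 4 = true := by decide +kernel
theorem ord_d10 : ordOK d10 5 = true := by decide +kernel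
theorem ord_d12 : ordOK d12 6 = true := by decide +kernel

theorem mem_d8 : memOK d8 v8 = true := by decide +kernel
theorem mem_d10 : memOK d10 v10 = true := by decide +kernel
theorem mem_d12 : memOK d12 v12 = true := by decide +kernel
theorem mem_c7 : memOK c7 0 = true := by decide +kernel
theorem mem_c15 : memOK c15 0 = true := by decide +kernel

theorem dbl_d8 : dblOK d8 v8 4 0 7 = true := by decide +kernel
theorem dbl_d10 : dblOK d10 v10 5 5 0 = true := by decide +kernel
theorem dbl_d12 : dblOK d12 v12 6 3 7 = true := by decide +kernel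

theorem exists_of_ordQ {ι : Type} (x : G0 ι) (hx : x ∈ G1 ι) {m n : ℕ} (hm : ordQ x = m)
    (hm0 : m ≠ 0) (hn : n ∣ m) : ∃ h : HH ι, orderOf h = n :=
  exists_orderOf_of_dvd (⟨_, Subgroup.mem_map_of_mem _ hx⟩ : HH ι)
    (by rw [orderOf_HH x hx, hm]; exact hn) (by rw [orderOf_HH x hx, hm]; exact hm0)

theorem exists_ord {ι : Type} [Nonempty ι] (n : ℕ) (hn : n ∈ specS) :
    ∃ h : HH ι, orderOf h = n := by
  have h7 : orderOf (swaps c7) = 7 := ordOK_sound (by norm_num) ord_c7
  have h15 : orderOf (swaps c15) = 15 := ordOK_sound (by norm_num) ord_c15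
  have h4 : orderOf (swaps d8) = 4 := ordOK_sound (by norm_num) ord_d8
  have h5 : orderOf (swaps d10) = 5 := ordOK_sound (by norm_num) ord_d10
  have h6 : orderOf (swaps d12) = 6 := ordOK_sound (by norm_num) ord_d12
  have e7 : ordQ (wit ι c7 0) = 7 := by
    rw [ordQ_of_7_15 _ (memOK_sound mem_c7) (Or.inl h7)]; exact h7
  have e15 : ordQ (wit ι c15 0) = 15 := by
    rw [ordQ_of_7_15 _ (memOK_sound mem_c15) (Or.inr h15)]; exact h15
  have e8 : ordQ (wit ι d8 v8) = 8 := dbl_sound h4 dbl_d8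
  have e10 : ordQ (wit ι d10 v10) = 10 := dbl_sound h5 dbl_d10
  have e12 : ordQ (wit ι d12 v12) = 12 := dbl_sound h6 dbl_d12
  rcases specS_cover n hn with h | h | h | h | h
  · exact exists_of_ordQ _ (memOK_sound mem_c7) e7 (by norm_num) h
  · exact exists_of_ordQ _ (memOK_sound mem_d8) e8 (by norm_num) h
  · exact exists_of_ordQ _ (memOK_sound mem_d10) e10 (by norm_num) h
  · exact exists_of_ordQ _ (memOK_sound mem_d12) e12 (by norm_num) h
  · exact exists_of_ordQ _ (memOK_sound mem_c15) e15 (by norm_num) h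

/-- the set of element orders of `HH ι` -/
theorem spec_HH (ι : Type) [Nonempty ι] :
    Set.range (orderOf : HH ι → ℕ) = {1, 2, 3, 4, 5, 6, 7, 8, 10, 12, 15} := by
  apply Set.Subset.antisymm
  · rintro _ ⟨⟨q, hq⟩, rfl⟩
    obtain ⟨x, hx, rfl⟩ := Subgroup.mem_map.1 hq
    have := ordQ_mem_specS x hx
    rw [orderOf_HH x hx]
    simp only [specS, List.mem_cons, List.not_mem_nil, or_false] at this
    simp only [Set.mem_insert_iff, Set.mem_singleton_iff]
    exact this
  · intro n hn
    have hn' : n ∈ specS := by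
      simp only [Set.mem_insert_iff, Set.mem_singleton_iff] at hn
      simp only [specS, List.mem_cons, List.not_mem_nil, or_false]
      exact hn
    exact exists_ord n hn'

/-- a non-constant vector of even weight -/
def w0 : Vec := fun j => if j = 0 ∨ j = 1 then 1 else 0

/-- many elements -/
def uu {N : ℕ} (t : Fin (N + 1)) : G0 (Fin (N + 1)) := ⟨1, fun i => if i = t then w0 else 0⟩

theorem uu_mem {N : ℕ} (t : Fin (N + 1)) : uu t ∈ G1 (Fin (N + 1)) := by
  refine ⟨one_mem _, fun i => ?_⟩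
  show ∑ j, (if i = t then w0 else 0) j = 0
  by_cases h : i = t
  · rw [if_pos h]; decide
  · rw [if_neg h]; simp

theorem card_HH (N : ℕ) [Fintype (HH (Fin (N + 1)))] : N < Fintype.card (HH (Fin (N + 1))) := by
  let φ : Fin (N + 1) → HH (Fin (N + 1)) := fun t =>
    ⟨QuotientGroup.mk' (K0 _) (uu t), Subgroup.mem_map_of_mem _ (uu_mem t)⟩
  have hφ : Function.Injective φ := by
    intro s t hst
    have h1 : (QuotientGroup.mk (uu s) : G0 (Fin (N + 1)) ⧸ K0 (Fin (N + 1))) =
        QuotientGroup.mk (uu t) := congrArg Subtype.val hst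
    rw [QuotientGroup.eq] at h1
    by_contra hne
    have h2 := h1.2 s 0 2
    have e : ((uu s)⁻¹ * uu t).a s = -w0 := by
      rw [mul_a, inv_a]
      show -(act (1 : Equiv.Perm (Fin 8))⁻¹ (if s = s then w0 else 0)) +
        act (1 : Equiv.Perm (Fin 8))⁻¹ (if s = t then w0 else 0) = -w0
      rw [if_pos rfl, if_neg hne, inv_one, act_one, act_zero, add_zero]
    rw [e] at h2
    revert h2
    decide
  have := Fintype.card_le_of_injective φ hφ
  rw [Fintype.card_fin] at this
  omega

/-- **T2**: arbitrarily large finite groups with the element orders `1, …, 8, 10, 12, 15` -/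
theorem exists_big (N : ℕ) : ∃ (H : Type) (_ : Group H) (_ : Fintype H), N < Fintype.card H ∧
    Set.range (orderOf : H → ℕ) = {1, 2, 3, 4, 5, 6, 7, 8, 10, 12, 15} := by
  classical
  letI : Fintype (HH (Fin (N + 1))) := Fintype.ofFinite _
  exact ⟨HH (Fin (N + 1)), inferInstance, inferInstance, card_HH N, spec_HH (Fin (N + 1))⟩

end Cfsg.Agent.Lib.Helper5.S8Spec
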